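import Cfsg.Agent.H87.Fi22.OmegaMain
import Cfsg.Agent.H45.Fi22Pres
import Cfsg.Agent.H45.Fi22I3510

/-!
The map from the presented group on `b, ..., i` into `Cfsg.Spor.Fi22`,
-/

set_option autoImplicit false

namespace Cfsg.Agent.H87.Fi22

open Cfsg.Agent.H45

theorem fi_perm_ok : permCheck Fi22Pres.pres.gl.length 3510 (List.range Fi22Pres.pres.gl.length)
    Fi22I3510.cols Fi22Pres.pres.R = true := by
  rw [show Fi22Pres.pres.R = Fi22I3510.relWords by decide +kernel,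
    show Fi22Pres.pres.gl.length = 9 from rfl, ← Fi22I3510.invl_eq]
  exact Fi22I3510.perm_ok

theorem up_relators : ∀ r ∈ Cfsg.Spor.coxRelators omegaPres.edges ∪ {r | r ∈ omegaPres.extra},
    FreeGroup.lift (fun x => (PresentedGroup.of x.up : Fi22Pres.pres.Gp)) r = 1 := by
  have hsq : ∀ x, (PresentedGroup.of x : Fi22Pres.pres.Gp) * PresentedGroup.of x = 1 := Fi22Pres.ok.sq
  rintro r (⟨x, hx, y, hy, rfl⟩ | hr)
  · rw [map_pow, map_mul, FreeGroup.lift_apply_of, FreeGroup.lift_apply_of]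
    have hlab : Cfsg.Spor.coxLabel omegaPres.edges x y =
        Cfsg.Spor.coxLabel Fi22Pres.pres.edges x.up y.up := by cases x <;> cases y <;> decide
    rw [hlab]
    exact Fi22Pres.ok.cox _ (Fi22Pres.ok.nodes _) _ (Fi22Pres.ok.nodes _)
  · have hmem : FreeGroup.map Gen7.up r ∈ Fi22Pres.pres.extra := by
      simp only [omegaPres, Set.mem_setOf_eq, List.mem_cons, List.not_mem_nil, or_false] at hr
      rcases hr with rfl | rfl <;>
        simp [Fi22Pres.pres, Cfsg.Spor.Fi22.extra, Gen7.up, map_pow, map_mul, FreeGroup.map.of]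
    have heq : FreeGroup.lift (fun x => (PresentedGroup.of x.up : Fi22Pres.pres.Gp)) =
        (PresentedGroup.mk _).comp (FreeGroup.map Gen7.up) := by
      refine FreeGroup.ext_hom _ _ fun x => ?_
      rw [MonoidHom.comp_apply, FreeGroup.lift_apply_of, FreeGroup.map.of]
      rfl
    rw [heq, MonoidHom.comp_apply]
    exact PresentedGroup.one_of_mem (Or.inr hmem)

/-- the natural map into the presented Fi22 -/
def upHom : omegaPres.Gp →* Fi22Pres.pres.Gp := PresentedGroup.toGroup up_relators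

theorem upHom_of (x : Gen7) : upHom (PresentedGroup.of x) = PresentedGroup.of x.up :=
  PresentedGroup.toGroup.of up_relators

theorem upHom_injective : Function.Injective upHom := by
  obtain ⟨-, -, -, hsimple⟩ := omega_facts
  rcases IsSimpleGroup.eq_bot_or_eq_top_of_normal upHom.ker inferInstance with h | h
  · exact (MonoidHom.ker_eq_bot_iff upHom).mp h
  exfalso
  obtain ⟨φ, hA⟩ := Fi22Pres.ok.act fi_perm_ok
  have hb : upHom (PresentedGroup.of Gen7.b) = 1 := by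
    rw [← MonoidHom.mem_ker, h]
    exact Subgroup.mem_top _
  have h1 : sig (permCheck_PT fi_perm_ok) 1 = 1 := by
    rw [← hA.map 1 (by decide), ← map_one φ, ← hb, upHom_of]
    rfl
  have hmove : ∃ i : Fin 3510, tget Fi22I3510.cols i 1 ≠ i := by
    have : tget Fi22I3510.cols 0 1 ≠ 0 := by decide +kernel
    exact ⟨⟨0, by norm_num⟩, this⟩
  obtain ⟨i, hi⟩ := hmove
  apply hi
  have := congrArg Fin.val (Equiv.ext_iff.mp h1 i)
  simpa [sig, linv_range, Fi22Pres.pres] using this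

/-- the image of the generators `b, ..., i` -/
theorem closure_map_mk_eq_range :
    (Subgroup.closure ({Cfsg.Spor.Fi22.b, Cfsg.Spor.Fi22.c, Cfsg.Spor.Fi22.d, Cfsg.Spor.Fi22.e,
      Cfsg.Spor.Fi22.f, Cfsg.Spor.Fi22.g, Cfsg.Spor.Fi22.h, Cfsg.Spor.Fi22.i} :
        Set (FreeGroup Cfsg.Spor.Fi22.Gen))).map
      (PresentedGroup.mk (Cfsg.Spor.coxRelators Cfsg.Spor.Fi22.edges ∪
        {r | r ∈ Cfsg.Spor.Fi22.extra})) = upHom.range := by
  rw [MonoidHom.map_closure, MonoidHom.range_eq_map, ← PresentedGroup.closure_range_of,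
    MonoidHom.map_closure]
  congr 1
  ext z
  constructor
  · rintro ⟨w, hw, rfl⟩
    simp only [Set.mem_insert_iff, Set.mem_singleton_iff] at hw
    rcases hw with rfl | rfl | rfl | rfl | rfl | rfl | rfl | rfl
    exacts [⟨_, ⟨.b, rfl⟩, upHom_of _⟩, ⟨_, ⟨.c, rfl⟩, upHom_of _⟩, ⟨_, ⟨.d, rfl⟩, upHom_of _⟩,
      ⟨_, ⟨.e, rfl⟩, upHom_of _⟩, ⟨_, ⟨.f, rfl⟩, upHom_of _⟩, ⟨_, ⟨.g, rfl⟩, upHom_of _⟩,
      ⟨_, ⟨.h, rfl⟩, upHom_of _⟩, ⟨_, ⟨.i, rfl⟩, upHom_of _⟩]
  · rintro ⟨_, ⟨x, rfl⟩, rfl⟩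
    rw [upHom_of]
    exact ⟨FreeGroup.of x.up, by cases x <;> simp [Gen7.up], rfl⟩

end Cfsg.Agent.H87.Fi22
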