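import Cfsg.Agent.H87.Fi22.OmegaPres
import Cfsg.Agent.H87.Fi22.OmegaSmall
import Cfsg.Agent.H87.Fi22.OmegaTop

/-!
The upper bound `4585351680` for the presented group on `b, ..., i`.
-/

set_option autoImplicit false

namespace Cfsg.Agent.H87.Fi22

open Cfsg.Agent.H45

theorem omega_sub7 : Finite (omegaPres.sub [0, 1, 2, 3, 4, 5, 6]) ∧
    Nat.card (omegaPres.sub [0, 1, 2, 3, 4, 5, 6]) ≤ 1451520 := by
  have h1 : Finite (omegaPres.sub [0]) ∧ Nat.card (omegaPres.sub [0]) ≤ 2 := by
    have := omegaPres_ok.bound (D := L1.dat) (ls := [0]) (ms := []) (m := 1) rfl rfl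
      (by decide +kernel) (by decide +kernel)
      (ltCheck_sound L1.lt_ok) (by norm_num) L1.close_ok Pres.sub_nil_card
    simpa using this
  have h2 : Finite (omegaPres.sub [0, 1]) ∧ Nat.card (omegaPres.sub [0, 1]) ≤ 6 := by
    have := omegaPres_ok.bound (D := L2.dat) (ls := [0, 1]) (ms := [0]) (m := 2) rfl rfl
      (by decide +kernel) (by decide +kernel)
      (ltCheck_sound L2.lt_ok) (by norm_num) L2.close_ok h1
    simpa using this
  have h3 : Finite (omegaPres.sub [0, 1, 2]) ∧ Nat.card (omegaPres.sub [0, 1, 2]) ≤ 24 := by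
    have := omegaPres_ok.bound (D := L3.dat) (ls := [0, 1, 2]) (ms := [0, 1]) (m := 6) rfl rfl
      (by decide +kernel) (by decide +kernel)
      (ltCheck_sound L3.lt_ok) (by norm_num) L3.close_ok h2
    simpa using this
  have h4 : Finite (omegaPres.sub [0, 1, 2, 3]) ∧ Nat.card (omegaPres.sub [0, 1, 2, 3]) ≤ 120 := by
    have := omegaPres_ok.bound (D := L4.dat) (ls := [0, 1, 2, 3]) (ms := [0, 1, 2]) (m := 24) rfl rfl
      (by decide +kernel) (by decide +kernel)
      (ltCheck_sound L4.lt_ok) (by norm_num) L4.close_ok h3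
    simpa using this
  have h5 : Finite (omegaPres.sub [0, 1, 2, 3, 6]) ∧
      Nat.card (omegaPres.sub [0, 1, 2, 3, 6]) ≤ 1920 := by
    have := omegaPres_ok.bound (D := L5.dat) (ls := [0, 1, 2, 3, 6]) (ms := [0, 1, 2, 3]) (m := 120)
      rfl rfl (by decide +kernel) (by decide +kernel)
      (ltCheck_sound L5.lt_ok) (by norm_num) L5.close_ok h4
    simpa using this
  have h6 : Finite (omegaPres.sub [0, 1, 2, 3, 4, 6]) ∧
      Nat.card (omegaPres.sub [0, 1, 2, 3, 4, 6]) ≤ 51840 := by
    have := omegaPres_ok.bound (D := L6.dat) (ls := [0, 1, 2, 3, 4, 6]) (ms := [0, 1, 2, 3, 6])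
      (m := 1920) rfl rfl (by decide +kernel) (by decide +kernel)
      (ltCheck_sound L6.lt_ok) (by norm_num) L6.close_ok h5
    simpa using this
  have := omegaPres_ok.bound (D := L7.dat) (ls := [0, 1, 2, 3, 4, 5, 6]) (ms := [0, 1, 2, 3, 4, 6])
    (m := 51840) rfl rfl (by decide +kernel) (by decide +kernel)
    (ltCheck_sound L7.lt_ok) (by norm_num) L7.close_ok h6
  simpa using this

theorem omega_bound : Finite omegaPres.Gp ∧ Nat.card omegaPres.Gp ≤ 4585351680 := by
  have := omegaPres_ok.bound (D := L8.dat) (ls := List.range 8)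
    (ms := [0, 1, 2, 3, 4, 5, 6]) (m := 1451520) rfl rfl (by decide +kernel) (by decide +kernel)
    (ltCheck_sound L8.lt_ok) (by norm_num) L8.close_ok omega_sub7
  rw [show (List.range 8) = List.range omegaPres.gl.length from rfl, omegaPres_ok.sub_range] at this
  obtain ⟨hfin, hle⟩ := this
  have : Finite omegaPres.Gp := Finite.of_equiv _ Subgroup.topEquiv.toEquiv
  refine ⟨this, ?_⟩
  rw [Nat.card_congr Subgroup.topEquiv.toEquiv] at hle
  simpa using hle

end Cfsg.Agent.H87.Fi22
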