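import Cfsg.Agent.H87.Fi22.OmegaPres
import Cfsg.Agent.H87.Fi22.OmegaVec
import Cfsg.Prelude.Def_Classical

/-!
Eight involutions of `Omega 7 3` satisfying the relations, and the order they generate.
-/

set_option autoImplicit false

namespace Cfsg.Agent.H87.Fi22.OmegaHom

open Cfsg.Agent.H45

/-- coordinates -/
abbrev Ix : Type := Unit ⊕ (Fin 3 ⊕ Fin 3)

/-- number of a coordinate -/
def ixNum : Ix → Fin 7
  | .inl _ => 0
  | .inr (.inl j) => ⟨1 + j, by omega⟩
  | .inr (.inr j) => ⟨4 + j, by omega⟩

/-- coordinate of a number -/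
def numIx (k : Fin 7) : Ix :=
  [.inl (), .inr (.inl 0), .inr (.inl 1), .inr (.inl 2),
    .inr (.inr 0), .inr (.inr 1), .inr (.inr 2)].getD k.val (.inl ())

/-- coordinates as numbers -/
def ixEquiv : Ix ≃ Fin 7 where
  toFun := ixNum
  invFun := numIx
  left_inv := by decide
  right_inv := by decide

/-- numbers as vectors -/
def vecEquiv : Fin 2187 ≃ (Ix → ZMod 3) :=
  (finFunctionFinEquiv (m := 3) (n := 7)).symm.trans
    (Equiv.arrowCongr ixEquiv.symm (Equiv.refl (Fin 3)))

/-- the quadratic form -/
abbrev Q : (Ix → ZMod 3) → ZMod 3 := Cfsg.quadFormOdd 3 (ZMod 3)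

/-- the matrix of a letter -/
def mat (l : Fin 8) : Matrix Ix Ix (ZMod 3) :=
  Matrix.of fun i j => (((OmegaVec.rows.getD l.val []).getD (ixNum i).val []).getD (ixNum j).val 0 : ℕ)

set_option maxRecDepth 100000 in
theorem mat_sq : ∀ l : Fin 8, mat l * mat l = 1 := by decide +kernel

/-- digit of a number -/
def dig (i k : ℕ) : ℕ := i / 3 ^ k % 3

/-- product of a row with the digits -/
def dot : List ℕ → ℕ → ℕ
  | [], _ => 0
  | a :: as, i => a * (i % 3) + dot as (i / 3)

/-- the form on a number -/
def qNum (i : ℕ) : ℕ :=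
  (dig i 0 * dig i 0 + dig i 1 * dig i 4 + dig i 2 * dig i 5 + dig i 3 * dig i 6) % 3

/-- check the points below a bound -/
noncomputable def chkAll (R : List (List ℕ)) (c : ℕ) : ℕ → Bool
  | 0 => true
  | i + 1 => force (cget c i) (fun j => Nat.blt j 2187 && Nat.beq (qNum j) (qNum i) &&
      (List.range 7).all (fun r => Nat.beq (dot (R.getD r []) i % 3) (dig j r))) && chkAll R c i

set_option maxRecDepth 100000 in
theorem chk0 : chkAll (OmegaVec.rows.getD 0 []) (OmegaVec.cols.getD 0 0) 2187 = true := by decide +kernel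

set_option maxRecDepth 100000 in
theorem chk1 : chkAll (OmegaVec.rows.getD 1 []) (OmegaVec.cols.getD 1 0) 2187 = true := by decide +kernel

set_option maxRecDepth 100000 in
theorem chk2 : chkAll (OmegaVec.rows.getD 2 []) (OmegaVec.cols.getD 2 0) 2187 = true := by decide +kernel

set_option maxRecDepth 100000 in
theorem chk3 : chkAll (OmegaVec.rows.getD 3 []) (OmegaVec.cols.getD 3 0) 2187 = true := by decide +kernel

set_option maxRecDepth 100000 in
theorem chk4 : chkAll (OmegaVec.rows.getD 4 []) (OmegaVec.cols.getD 4 0) 2187 = true := by decide +kernel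

set_option maxRecDepth 100000 in
theorem chk5 : chkAll (OmegaVec.rows.getD 5 []) (OmegaVec.cols.getD 5 0) 2187 = true := by decide +kernel

set_option maxRecDepth 100000 in
theorem chk6 : chkAll (OmegaVec.rows.getD 6 []) (OmegaVec.cols.getD 6 0) 2187 = true := by decide +kernel

set_option maxRecDepth 100000 in
theorem chk7 : chkAll (OmegaVec.rows.getD 7 []) (OmegaVec.cols.getD 7 0) 2187 = true := by decide +kernel

theorem chkAll_sound {R : List (List ℕ)} {c : ℕ} : ∀ {m : ℕ}, chkAll R c m = true → ∀ i, i < m →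
    cget c i < 2187 ∧ qNum (cget c i) = qNum i ∧
      ∀ r, r < 7 → dot (R.getD r []) i % 3 = dig (cget c i) r := by
  intro m
  induction m with
  | zero => intro _ i hi; omega
  | succ m ih =>
    intro h i hi
    simp only [chkAll, force_eq, Bool.and_eq_true, blt_iff, Nat.beq_eq, List.all_eq_true,
      List.mem_range] at h
    rcases Nat.lt_succ_iff_lt_or_eq.mp hi with hi | rfl
    · exact ih h.2 i hi
    · exact ⟨h.1.1.1, h.1.1.2, h.1.2⟩

theorem chk (l : Fin 8) (i : Fin 2187) : tget OmegaVec.cols i l < 2187 ∧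
    qNum (tget OmegaVec.cols i l) = qNum i ∧
      ∀ r, r < 7 → dot ((OmegaVec.rows.getD l.val []).getD r []) i % 3 =
        dig (tget OmegaVec.cols i l) r := by
  fin_cases l <;> [exact chkAll_sound chk0 i i.isLt; exact chkAll_sound chk1 i i.isLt;
    exact chkAll_sound chk2 i i.isLt; exact chkAll_sound chk3 i i.isLt;
    exact chkAll_sound chk4 i i.isLt; exact chkAll_sound chk5 i i.isLt;
    exact chkAll_sound chk6 i i.isLt; exact chkAll_sound chk7 i i.isLt]

theorem vecEquiv_dig (i : Fin 2187) (x : Ix) :
    vecEquiv i x = ((dig i (ixNum x) : ℕ) : ZMod 3) := by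
  apply Fin.ext
  show _ = ((dig i (ixNum x) : ℕ) : ZMod 3).val
  rw [ZMod.val_natCast]
  simp [vecEquiv, ixEquiv, dig, finFunctionFinEquiv, Equiv.arrowCongr]
  rfl

theorem Q_num (i : Fin 2187) : Q (vecEquiv i) = ((qNum i : ℕ) : ZMod 3) := by
  simp only [Q, Cfsg.quadFormOdd, vecEquiv_dig, Fin.sum_univ_three, qNum, ixNum, ZMod.natCast_mod,
    Nat.cast_add, Nat.cast_mul]
  simp only [Fin.val_zero, Fin.val_one, Fin.val_two, pow_two]
  norm_num
  ring

theorem dot_eq (R : List ℕ) (hR : R.length = 7) (i : ℕ) :
    dot R i = R.getD 0 0 * dig i 0 + R.getD 1 0 * dig i 1 + R.getD 2 0 * dig i 2 +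
      R.getD 3 0 * dig i 3 + R.getD 4 0 * dig i 4 + R.getD 5 0 * dig i 5 + R.getD 6 0 * dig i 6 := by
  match R, hR with
  | [_, _, _, _, _, _, _], _ => simp [dot, dig, Nat.div_div_eq_div_mul]; ring

theorem rows_len : ∀ l : Fin 8, ∀ r : Fin 7,
    ((OmegaVec.rows.getD l.val []).getD r.val []).length = 7 := by decide +kernel

theorem mat_act (l : Fin 8) (i : Fin 2187) :
    ((vecEquiv.symm (Matrix.mulVec (mat l) (vecEquiv i)) : Fin 2187) : ℕ) =
      tget OmegaVec.cols i l := by
  obtain ⟨hlt, -, hrow⟩ := chk l i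
  suffices Matrix.mulVec (mat l) (vecEquiv i) = vecEquiv ⟨_, hlt⟩ by
    rw [this, Equiv.symm_apply_apply]
  funext x
  rw [vecEquiv_dig, ← hrow _ (ixNum x).isLt, ZMod.natCast_mod, dot_eq _ (rows_len l (ixNum x))]
  simp only [Matrix.mulVec, dotProduct, mat, Matrix.of_apply, vecEquiv_dig, Fintype.sum_sum_type,
    Fintype.univ_punit, Finset.sum_singleton, Fin.sum_univ_three, ixNum, Nat.cast_add, Nat.cast_mul]
  norm_num
  ring

theorem mat_Q (l : Fin 8) (v : Ix → ZMod 3) : Q (Matrix.mulVec (mat l) v) = Q v := by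
  obtain ⟨i, rfl⟩ := vecEquiv.surjective v
  obtain ⟨hlt, hq, -⟩ := chk l i
  have h : Matrix.mulVec (mat l) (vecEquiv i) = vecEquiv ⟨_, hlt⟩ := by
    rw [← vecEquiv.symm_apply_eq]
    exact Fin.ext (mat_act l i)
  rw [h, Q_num, Q_num, hq]

/-- the isometry of a letter -/
def gen (l : Fin 8) : Cfsg.isometryGroup (ZMod 3) Q :=
  ⟨⟨mat l, mat l, mat_sq l, mat_sq l⟩, fun u _ => mat_Q l u⟩

/-- the action on the vectors -/
def act : Cfsg.isometryGroup (ZMod 3) Q →* Equiv.Perm (Fin 2187) where
  toFun g :=
    { toFun := fun i => vecEquiv.symm (Matrix.mulVec g.1.1 (vecEquiv i))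
      invFun := fun i => vecEquiv.symm (Matrix.mulVec g⁻¹.1.1 (vecEquiv i))
      left_inv := fun i => by
        simp only [Equiv.apply_symm_apply, Matrix.mulVec_mulVec, ← Units.val_mul, ← Subgroup.coe_mul,
          inv_mul_cancel]
        simp
      right_inv := fun i => by
        simp only [Equiv.apply_symm_apply, Matrix.mulVec_mulVec, ← Units.val_mul, ← Subgroup.coe_mul,
          mul_inv_cancel]
        simp }
  map_one' := by ext i; simp
  map_mul' g h := by
    ext i
    simp [Matrix.mulVec_mulVec]

theorem act_injective : Function.Injective act := by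
  intro g h e
  apply Subtype.ext; apply Units.ext
  refine Matrix.ext_iff_mulVec.2 fun v => ?_
  obtain ⟨i, rfl⟩ := vecEquiv.surjective v
  exact vecEquiv.symm.injective (Equiv.ext_iff.mp e i)

theorem R_lt : ∀ w ∈ omegaPres.R, ∀ l ∈ w, l < 8 := by decide +kernel

theorem vec_perm : permCheck omegaPres.gl.length 2187 (List.range omegaPres.gl.length)
    OmegaVec.cols omegaPres.R = true := by
  decide +kernel

/-- the image of a generator -/
def img (x : Gen7) : Cfsg.isometryGroup (ZMod 3) Q :=
  gen (match x with | .b => 0 | .c => 1 | .d => 2 | .e => 3 | .f => 4 | .g => 5 | .h => 6 | .i => 7)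

theorem act_gen (l : Fin 8) : act (gen l) = sig (permCheck_PT vec_perm) l := by
  ext i
  have hl : (l : ℕ) < omegaPres.gl.length := l.isLt
  simp only [sig, hl, dif_pos]
  change ((vecEquiv.symm (Matrix.mulVec (mat l) (vecEquiv i)) : Fin 2187) : ℕ) =
    tget OmegaVec.cols i (linv (List.range omegaPres.gl.length) l)
  rw [linv_range, mat_act]

theorem exists_hom : ∃ ψ : omegaPres.Gp →* Cfsg.isometryGroup (ZMod 3) Q,
    4585351680 ≤ Nat.card ψ.range ∧ ∀ x, ψ x ∈ Cfsg.Omega (ZMod 3) Q := by
  obtain ⟨φ, hA⟩ := omegaPres_ok.act vec_perm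
  have himg : ∀ x, act (img x) = φ (PresentedGroup.of x) := by
    intro x
    cases x <;>
    · rw [img, act_gen]
      refine (hA.map _ (Fin.isLt _)).symm.trans ?_
      rfl
  have hlift : ∀ r, act (FreeGroup.lift img r) = φ (PresentedGroup.mk _ r) := by
    intro r
    have : act.comp (FreeGroup.lift img) = φ.comp (PresentedGroup.mk _) := by
      refine FreeGroup.ext_hom _ _ fun x => ?_
      simp only [MonoidHom.comp_apply, FreeGroup.lift_apply_of]
      exact himg x
    exact DFunLike.congr_fun this r
  have hrel : ∀ r ∈ Cfsg.Spor.coxRelators omegaPres.edges ∪ {r | r ∈ omegaPres.extra},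
      FreeGroup.lift img r = 1 := by
    intro r hr
    apply act_injective
    rw [hlift, PresentedGroup.one_of_mem hr, map_one, map_one]
  let ψ : omegaPres.Gp →* Cfsg.isometryGroup (ZMod 3) Q := PresentedGroup.toGroup hrel
  have hφ : act.comp ψ = φ := by
    refine PresentedGroup.ext fun x => ?_
    rw [MonoidHom.comp_apply, PresentedGroup.toGroup.of, himg]
  refine ⟨ψ, ?_, ?_⟩
  · have h1 : 4585351680 ≤ Nat.card φ.range := by
      rw [← OmegaVec.chain_prod]
      refine chainCheck_sound (permCheck_PT vec_perm) (iv := List.range omegaPres.gl.length)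
        OmegaVec.chain_ok _ fun lv hlv g hg => ?_
      exact ⟨_, hA.evalW g (chainCheck_letters OmegaVec.chain_ok lv hlv g hg)⟩
    refine h1.trans ?_
    rw [← hφ, MonoidHom.range_comp, Subgroup.card_map_of_injective act_injective]
  · intro x
    let a := (Abelianization.of).comp ψ
    suffices a = 1 by
      have := DFunLike.congr_fun this x
      rw [MonoidHom.one_apply, MonoidHom.comp_apply] at this
      exact (QuotientGroup.eq_one_iff (ψ x)).mp this
    let e := omegaPres.e
    have hedge : ∀ x y : Gen7, Cfsg.Spor.coxLabel omegaPres.edges x y = 3 →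
        a (PresentedGroup.of x) = a (PresentedGroup.of y) := by
      intro x y hxy
      have h3 := congrArg a (omegaPres_ok.cox x (omegaPres_ok.nodes x) y (omegaPres_ok.nodes y))
      have hx := congrArg a (omegaPres_ok.sq x)
      have hy := congrArg a (omegaPres_ok.sq y)
      rw [hxy, map_pow, map_mul, map_one] at h3
      rw [map_mul, map_one] at hx hy
      rw [pow_succ, pow_succ, pow_one, mul_mul_mul_comm (a (PresentedGroup.of x)), hx, hy, one_mul,
        one_mul] at h3
      calc a (PresentedGroup.of x)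
          = a (PresentedGroup.of x) * (a (PresentedGroup.of x) * a (PresentedGroup.of y)) := by
            rw [h3, mul_one]
        _ = a (PresentedGroup.of y) := by rw [← mul_assoc, hx, one_mul]
    have hall : ∀ x, a (PresentedGroup.of x) = a (PresentedGroup.of Gen7.b) := by
      have c := (hedge .b .c (by decide)).symm
      have d := (hedge .c .d (by decide)).symm.trans c
      have e := (hedge .d .e (by decide)).symm.trans d
      have h := (hedge .d .h (by decide)).symm.trans d
      have f := (hedge .e .f (by decide)).symm.trans e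
      intro x; cases x
      exacts [rfl, c, d, e, f, (hedge .f .g (by decide)).symm.trans f, h,
        (hedge .h .i (by decide)).symm.trans h]
    have hb : a (PresentedGroup.of Gen7.b) = 1 := by
      have hmem : omegaPres.Rx.getD 1 [] ∈ omegaPres.R := by decide +kernel
      have hlen : (omegaPres.Rx.getD 1 []).length = 2 * 31 + 1 := by decide +kernel
      have hev : ∀ w, (∀ l ∈ w, l < 8) →
          a (evalW e w) = a (PresentedGroup.of Gen7.b) ^ w.length := by
        intro w hw
        induction w with
        | nil => simp [evalW]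
        | cons l w ih =>
          rw [evalW_cons, map_mul, ih (fun k hk => hw k (by simp [hk])), List.length_cons, pow_succ']
          congr 1
          have hl : l < omegaPres.gl.length := hw l (by simp)
          simp only [e, Pres.e, eOf, List.getElem?_eq_getElem hl, Option.elim_some]
          exact hall _
      have h := hev _ (R_lt _ hmem)
      have h2 : a (PresentedGroup.of Gen7.b) ^ 2 = 1 := by
        rw [pow_two, ← map_mul, omegaPres_ok.sq, map_one]
      rw [omegaPres_ok.rel _ hmem, map_one, hlen, pow_succ, pow_mul, h2, one_pow, one_mul] at h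
      exact h.symm
    refine PresentedGroup.ext fun x => ?_
    rw [hall, hb, MonoidHom.one_apply]

end Cfsg.Agent.H87.Fi22.OmegaHom
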