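import Cfsg.Agent.H87.Fi22.OmegaBound
import Cfsg.Agent.H87.Fi22.OmegaHom
import Cfsg.Agent.S0292
import Cfsg.Agent.S0295

/-!
The presented group on `b, ..., i` is `POmega 7 3`, so a simple group of order `4585351680`.
-/

set_option autoImplicit false

namespace Cfsg.Agent.H87.Fi22

open Cfsg.Agent.H45

theorem card_pomega_seven_three :
    Nat.card (Cfsg.POmega (ZMod 3) (Cfsg.quadFormOdd 3 (ZMod 3))) = 4585351680 := by
  have h := Cfsg.Agent.S0292.result (F := ZMod 3) (q := 3) (ZMod.card 3) (by decide) 3 le_rfl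
  simp only [Finset.prod_range_succ, Finset.prod_range_zero] at h
  norm_num at h
  omega

theorem omega_center_bot :
    Subgroup.center (Cfsg.Omega (ZMod 3) (Cfsg.quadFormOdd 3 (ZMod 3))) = ⊥ := by
  have h2 : (2 : ZMod 3) ≠ 0 := by decide
  have hQ := Orthogonal.formOdd_nondeg (ZMod 3) 3 h2
  have hn : Module.finrank (ZMod 3) (Unit ⊕ (Fin 3 ⊕ Fin 3) → ZMod 3) = 2 * 3 + 1 :=
    Orthogonal.finrank_formOdd (ZMod 3) 3
  refine Subgroup.eq_bot_of_card_eq _ ?_
  rw [← Orthogonal.formOdd_coe]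
  refine Orthogonal.card_center_omega_eq_one hQ (by omega) fun g hg hgm => ?_
  exfalso
  have h := Orthogonal.det_eq_one_of_mem_omega g hg
  rw [hgm, Matrix.det_neg, Matrix.det_one, mul_one] at h
  have hcard : Fintype.card (Unit ⊕ (Fin 3 ⊕ Fin 3)) = 7 := by simp
  rw [hcard] at h
  revert h; decide

theorem omega_facts :
    Nonempty (omegaPres.Gp ≃* Cfsg.POmega (ZMod 3) (Cfsg.quadFormOdd 3 (ZMod 3))) ∧
      Finite omegaPres.Gp ∧ Nat.card omegaPres.Gp = 4585351680 ∧ IsSimpleGroup omegaPres.Gp := by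
  obtain ⟨hfin, hle⟩ := omega_bound
  obtain ⟨ψ, hψ, hmem⟩ := OmegaHom.exists_hom
  have hr : Nat.card ψ.range ≤ Nat.card omegaPres.Gp :=
    Nat.card_le_card_of_surjective ψ.rangeRestrict ψ.rangeRestrict_surjective
  have hcard : Nat.card omegaPres.Gp = 4585351680 := le_antisymm hle (hψ.trans hr)
  have hψi : Function.Injective ψ := by
    have : Function.Bijective ψ.rangeRestrict :=
      (Nat.bijective_iff_surjective_and_card _).mpr
        ⟨ψ.rangeRestrict_surjective, le_antisymm (hle.trans hψ) hr⟩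
    intro a b hab
    exact this.1 (Subtype.ext hab)
  let η : omegaPres.Gp →* Cfsg.POmega (ZMod 3) (Cfsg.quadFormOdd 3 (ZMod 3)) :=
    (QuotientGroup.mk' _).comp (ψ.codRestrict _ hmem)
  have hηi : Function.Injective η := by
    intro a b hab
    have h : (ψ.codRestrict _ hmem a)⁻¹ * ψ.codRestrict _ hmem b ∈
        Subgroup.center (Cfsg.Omega (ZMod 3) (Cfsg.quadFormOdd 3 (ZMod 3))) := QuotientGroup.eq.mp hab
    rw [omega_center_bot, Subgroup.mem_bot, inv_mul_eq_one] at h
    exact hψi (congrArg Subtype.val h)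
  have : Finite (Cfsg.POmega (ZMod 3) (Cfsg.quadFormOdd 3 (ZMod 3))) :=
    Nat.finite_of_card_ne_zero (by rw [card_pomega_seven_three]; norm_num)
  have hbij : Function.Bijective η :=
    (Nat.bijective_iff_injective_and_card _).mpr ⟨hηi, hcard.trans card_pomega_seven_three.symm⟩
  let E := MulEquiv.ofBijective η hbij
  have := Cfsg.Agent.S0295.result (F := ZMod 3) (by rw [ZMod.card]; decide) 3 le_rfl
  exact ⟨⟨E⟩, hfin, hcard, E.isSimpleGroup⟩

end Cfsg.Agent.H87.Fi22
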