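import Cfsg.Prelude.Def_Spor_Fi22
import Cfsg.Agent.H45.CosetGroup

/-!
The presentation on the generators `b, ..., i` of `Cfsg.Spor.Fi22`, with the relators among them.
-/

set_option autoImplicit false

namespace Cfsg.Agent.H87.Fi22

open Cfsg.Spor Cfsg.Agent.H45

/-- the generators `b, ..., i` -/
inductive Gen7
  | b | c | d | e | f | g | h | i
  deriving DecidableEq

/-- the generator of `Fi22` -/
def Gen7.up : Gen7 → Cfsg.Spor.Fi22.Gen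
  | .b => .b | .c => .c | .d => .d | .e => .e | .f => .f | .g => .g | .h => .h | .i => .i

/-- the presentation as words in the letters -/
def omegaPres : Pres Gen7 where
  edges := [(.b, 3, .c), (.c, 3, .d), (.d, 3, .e), (.d, 3, .h), (.e, 3, .f), (.f, 3, .g), (.h, 3, .i)]
  extra :=
    let b := FreeGroup.of Gen7.b
    let c := FreeGroup.of Gen7.c
    let d := FreeGroup.of Gen7.d
    let e := FreeGroup.of Gen7.e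
    let f := FreeGroup.of Gen7.f
    let g := FreeGroup.of Gen7.g
    let h := FreeGroup.of Gen7.h
    let i := FreeGroup.of Gen7.i
    [(d * c * b * d * e * f * d * h * i) ^ 10, (b * c * d * e * f * g * h) ^ 9]
  gl := [.b, .c, .d, .e, .f, .g, .h, .i]
  Rc := [
  [0, 0],
  [0, 1, 0, 1, 0, 1],
  [0, 2, 0, 2],
  [0, 3, 0, 3],
  [0, 4, 0, 4],
  [0, 5, 0, 5],
  [0, 6, 0, 6],
  [0, 7, 0, 7],
  [1, 1],
  [1, 2, 1, 2, 1, 2],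
  [1, 3, 1, 3],
  [1, 4, 1, 4],
  [1, 5, 1, 5],
  [1, 6, 1, 6],
  [1, 7, 1, 7],
  [2, 2],
  [2, 3, 2, 3, 2, 3],
  [2, 4, 2, 4],
  [2, 5, 2, 5],
  [2, 6, 2, 6, 2, 6],
  [2, 7, 2, 7],
  [3, 3],
  [3, 4, 3, 4, 3, 4],
  [3, 5, 3, 5],
  [3, 6, 3, 6],
  [3, 7, 3, 7],
  [4, 4],
  [4, 5, 4, 5, 4, 5],
  [4, 6, 4, 6],
  [4, 7, 4, 7],
  [5, 5],
  [5, 6, 5, 6],
  [5, 7, 5, 7],
  [6, 6],
  [6, 7, 6, 7, 6, 7],
  [7, 7]]
  Rx := [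
  [2, 1, 0, 2, 3, 4, 2, 6, 7, 2, 1, 0, 2, 3, 4, 2, 6, 7, 2, 1, 0, 2, 3, 4, 2, 6, 7, 2, 1, 0, 2, 3, 4, 2, 6, 7, 2, 1, 0, 2, 3, 4, 2, 6, 7, 2, 1, 0, 2, 3, 4, 2, 6, 7, 2, 1, 0, 2, 3, 4, 2, 6, 7, 2, 1, 0, 2, 3, 4, 2, 6, 7, 2, 1, 0, 2, 3, 4, 2, 6, 7, 2, 1, 0, 2, 3, 4, 2, 6, 7],
  [0, 1, 2, 3, 4, 5, 6, 0, 1, 2, 3, 4, 5, 6, 0, 1, 2, 3, 4, 5, 6, 0, 1, 2, 3, 4, 5, 6, 0, 1, 2, 3, 4, 5, 6, 0, 1, 2, 3, 4, 5, 6, 0, 1, 2, 3, 4, 5, 6, 0, 1, 2, 3, 4, 5, 6, 0, 1, 2, 3, 4, 5, 6]]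

theorem omegaPres_ok : omegaPres.OK where
  all x := by cases x <;> decide
  nodup := by decide
  check := by decide +kernel
  extra_eval G _ f hf := by
    simp [omegaPres, eOf, evalW, FreeGroup.lift_apply_of,
      mul_inv_rev, hf, pow_succ, pow_zero, mul_assoc]

end Cfsg.Agent.H87.Fi22
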